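import Cfsg.Agent.H821.K547.Defs
import Cfsg.Agent.H601.K4.InvParity
import Cfsg.Agent.S0165
import Cfsg.Agent.Characters.Linear

/-!
# S4547: three invariant good characters from one (helper813)

* `ginv3_of_vanish` : an invariant good character `χ`, an element `x` of odd prime order `p` with `τ x` conjugate to
  `x`, `χ` vanishing on `⟨x⟩ \ {1}` : then `GInv3 τ`;
* `ginv3_of_div` : the same if `p` divides `|S|` exactly once and divides the degree of `χ`.
-/

set_option autoImplicit false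

namespace Cfsg.Agent.H813.K547

open Cfsg Cfsg.Agent.Characters.Core Cfsg.Agent.H601.K4 Cfsg.Agent.H821.K547
open scoped ComplexConjugate

universe u

variable {S : Type u} [Group S]

/-- a character of degree divisible by a prime dividing the group order once vanishes at the `p`-singular elements -/
theorem vanish [Finite S] {χ : S → ℂ} (hχ : IsIrrCharacter S χ) {p : ℕ} (hp : p.Prime) (h1 : p ∣ Nat.card S)
    (h2 : ¬ p ^ 2 ∣ Nat.card S) (hd : p ∣ charDegree χ) {t : S} (ht : p ∣ orderOf t) : χ t = 0 := by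
  obtain ⟨k, ρ, hρ, rfl⟩ := hχ
  have e1 : ρ.character 1 = (Module.finrank ℂ (Fin k → ℂ) : ℂ) := Representation.char_one ρ
  have e2 : charDegree ρ.character = Module.finrank ℂ (Fin k → ℂ) := Blocks.Knorr.charDegree_of_natCast e1
  have hd' : p ^ 1 ∣ Module.finrank ℂ (Fin k → ℂ) := by rw [← e2, pow_one]; exact hd
  have := hρ
  exact S0165.result ρ p 1 hp (by rwa [pow_one]) h2 hd' t ht

theorem oddIrr_one : OddIrr (fun _ : S => (1 : ℂ)) := by
  have h1 : IsIrrCharacter S (fun _ : S => (1 : ℂ)) := isIrr_one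
  refine ⟨h1, ?_⟩
  have h2 : charDegree (fun _ : S => (1 : ℂ)) = 1 := by
    unfold charDegree
    norm_num
  rw [h2]
  norm_num

theorem good_one [Finite S] : Good (fun _ : S => (1 : ℂ)) where
  odd := oddIrr_one
  sig := fun _ _ _ _ => rfl
  b0 := InB0.of_real oddIrr_one (fun _ => Complex.one_im)

/-- **Three invariant good characters.** -/
theorem ginv3_of_vanish [Finite S] (hev : Even (Nat.card S)) {χ : S → ℂ} (hχ : Good χ) {τ : MulAut S}
    (hτ : TwoPow τ) (hinv : ∀ x, χ (τ x) = χ x) {p : ℕ} (hp : p.Prime) (hp2 : p ≠ 2) {x : S} (hx : orderOf x = p)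
    (hc : ∃ s : S, τ x = s * x * s⁻¹) (hv : ∀ u ∈ Subgroup.zpowers x, u ≠ 1 → χ u = 0) : GInv3 τ := by
  classical
  have := Fintype.ofFinite S
  let U : Subgroup S := Subgroup.zpowers x
  have := Fintype.ofFinite U
  have hUc : Nat.card U = p := by rw [← hx]; exact Nat.card_zpowers x
  have hU : Odd (Nat.card U) := by rw [hUc]; exact hp.odd_of_ne_two hp2
  -- a nontrivial character of `U`
  obtain ⟨y, hy⟩ : ∃ y : U, y ≠ 1 := by
    have : Nontrivial U := by
      rw [← Finite.one_lt_card_iff_nontrivial, hUc]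
      exact hp.one_lt
    exact exists_ne 1
  obtain ⟨φ, hφ⟩ : ∃ φ : U →* ℂˣ, φ y ≠ 1 := by
    let cg : CommGroup U := IsCyclic.commGroup
    exact CommGroup.exists_apply_ne_one_of_hasEnoughRootsOfUnity U ℂ hy
  set ψ : U → ℂ := fun u => (φ u : ℂ) with hψdef
  have hψ : IsIrrCharacter U ψ := Characters.Linear.isIrrCharacter_hom φ
  choose m hm using fun χ : IrrCharacter S =>
    classInner_isNat (isCharacter_comp U.subtype (isIrr_isCharacter χ.2)) (isIrr_isCharacter hψ)
  -- the invariance of the multiplicities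
  obtain ⟨s, hs⟩ := hc
  have hUτ : ∀ u : U, ∃ t : S, τ (u : S) = t * u * t⁻¹ := by
    rintro ⟨u, hu⟩
    obtain ⟨i, rfl⟩ := Subgroup.mem_zpowers_iff.1 hu
    refine ⟨s, ?_⟩
    change τ (x ^ i) = s * x ^ i * s⁻¹
    rw [map_zpow, hs, conj_zpow]
  have hinvm : ∀ χ : IrrCharacter S, m (tauI τ χ) = m χ := by
    intro χ
    have h1 : (fun u : U => (tauI τ χ : S → ℂ) u) = fun u : U => (χ : S → ℂ) u := by
      funext u
      obtain ⟨t, ht⟩ := hUτ u
      rw [tauI_apply, ht]
      exact isIrr_isClassFunction χ.2 u t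
    have h2 := hm (tauI τ χ)
    have h3 := hm χ
    have h4 : classInner (fun u : U => (tauI τ χ : S → ℂ) u) ψ = (m (tauI τ χ) : ℂ) := h2
    rw [h1] at h4
    have h5 : ((m (tauI τ χ) : ℕ) : ℂ) = (m χ : ℂ) := h4.symm.trans h3
    exact_mod_cast h5
  -- the two known characters
  let c0 : IrrCharacter S := ⟨fun _ => 1, isIrr_one⟩
  let c1 : IrrCharacter S := ⟨χ, hχ.odd.1⟩
  have hodd : Odd (charDegree χ) := Nat.not_even_iff_odd.1 fun h => hχ.odd.2 h.two_dvd
  have hm0 : m c0 = 0 := by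
    have h1 : classInner (fun _ : U => (1 : ℂ)) ψ = (m c0 : ℂ) := hm c0
    have hone : IsIrrCharacter U (fun _ : U => (1 : ℂ)) := isIrr_one
    have h2 : (fun _ : U => (1 : ℂ)) ≠ ψ := by
      intro h
      have h3 := congrFun h y
      apply hφ
      exact Units.ext h3.symm
    rw [classInner_irr_ne hone hψ h2] at h1
    exact_mod_cast h1.symm
  have hm1 : Odd (m c1) := by
    have h1 : classInner (fun u : U => χ u) ψ = (m c1 : ℂ) := hm c1
    rw [classInner_def, Finset.sum_eq_single (1 : U)] at h1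
    · have h2 : ψ 1 = 1 := by
        rw [hψdef]; simp
      have h3 : χ ((1 : U) : S) = charDegree χ := by
        rw [Subgroup.coe_one, Cfsg.Agent.Blocks.Basic.irr_one_eq_charDegree hχ.odd.1]
      rw [h2, h3, map_one, mul_one, hUc] at h1
      have hp0 : (p : ℂ) ≠ 0 := by exact_mod_cast hp.ne_zero
      have h4 : (charDegree χ : ℂ) = ((p * m c1 : ℕ) : ℂ) := by
        push_cast
        rw [← h1, mul_inv_cancel_left₀ hp0]
      have h5 : charDegree χ = p * m c1 := by exact_mod_cast h4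
      rw [h5] at hodd
      exact (Nat.odd_mul.1 hodd).2
    · intro u _ hu
      rw [hv u u.2 (fun h => hu (Subtype.ext h)), zero_mul]
    · intro h
      exact absurd (Finset.mem_univ _) h
  have hne : c0 ≠ c1 := by
    intro h
    rw [← h, hm0] at hm1
    exact (Nat.not_odd_iff_even.2 (by decide)) hm1
  have hinv1 : tauI τ c1 = c1 := (tauI_eq_iff τ c1).2 hinv
  have hinv0 : tauI τ c0 = c0 := (tauI_eq_iff τ c0).2 fun _ => rfl
  obtain ⟨c, hcA, hcg, hci, -⟩ := exists_good_inv_odd hev U hU hψ m hm τ hτ hinvm {c0, c1} (by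
    intro χ' h
    rw [Finset.mem_insert, Finset.mem_singleton] at h
    rcases h with rfl | rfl
    · exact ⟨good_one, hinv0⟩
    · exact ⟨hχ, hinv1⟩) (by
    rw [Finset.sum_pair hne, hm0, zero_add]
    exact hm1)
  rw [Finset.mem_insert, Finset.mem_singleton, not_or] at hcA
  refine ⟨![(c0 : S → ℂ), c1, c], ?_, ?_⟩
  · intro i j hij
    have n1 : (c0 : S → ℂ) ≠ c1 := fun h => hne (Subtype.ext h)
    have n2 : (c0 : S → ℂ) ≠ c := fun h => hcA.1 (Subtype.ext h.symm)
    have n3 : (c1 : S → ℂ) ≠ c := fun h => hcA.2 (Subtype.ext h.symm)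
    fin_cases i <;> fin_cases j <;> simp_all
  · intro i
    fin_cases i
    · exact ⟨good_one, fun _ => rfl⟩
    · exact ⟨hχ, hinv⟩
    · exact ⟨hcg, (tauI_eq_iff τ c).1 hci⟩

/-- **Three invariant good characters** from one of degree divisible by a prime dividing `|S|` exactly once. -/
theorem ginv3_of_div [Finite S] (hev : Even (Nat.card S)) {χ : S → ℂ} (hχ : Good χ) {τ : MulAut S}
    (hτ : TwoPow τ) (hinv : ∀ x, χ (τ x) = χ x) {p : ℕ} (hp : p.Prime) (hp2 : p ≠ 2)
    (hn : ¬ p ^ 2 ∣ Nat.card S) (hd : p ∣ charDegree χ) {x : S} (hx : orderOf x = p)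
    (hc : ∃ s : S, τ x = s * x * s⁻¹) : GInv3 τ := by
  have h1 : p ∣ Nat.card S := hx ▸ orderOf_dvd_natCard x
  refine ginv3_of_vanish hev hχ hτ hinv hp hp2 hx hc fun u hu hu1 => vanish hχ.odd.1 hp h1 hn hd ?_
  have h2 : orderOf u ∣ p := by
    rw [← hx]
    exact orderOf_dvd_of_mem_zpowers hu
  rcases (Nat.dvd_prime hp).1 h2 with h3 | h3
  · exact absurd (orderOf_eq_one_iff.1 h3) hu1
  · rw [h3]

end Cfsg.Agent.H813.K547
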