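import Cfsg.Agent.H813.K547.FiTF
import Cfsg.Agent.H569.K547.M24
import Cfsg.Agent.H845.K547.Jordan
import Cfsg.Agent.H593.K4.Fi24

/-!
# S4547, the row `Fi24'` (helper813)
-/

set_option autoImplicit false

namespace Cfsg.Agent.H813.K547.FiTF

open Cfsg Cfsg.Agent.H821.K547
open Cfsg.Agent.R08

universe u

/-- **the row `Fi24'`** -/
theorem row {S : Type u} [Group S] (h : Spor.IsoFi24' S) : Row S := by
  obtain ⟨e⟩ := id h
  have := finite_F
  have : Finite S := Finite.of_equiv _ e.symm.toEquiv
  have : IsSimpleGroup Spor.Fi24' := FiTwentyFour.isFi24'.1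
  have hs : IsSimpleGroup S := e.isSimpleGroup
  have hna : ¬ IsMulCommutative S := by
    intro hc
    let _ : CommGroup S := { (inferInstance : Group S) with mul_comm := hc.is_comm.comm }
    have h1 : (Nat.card S).Prime := IsSimpleGroup.prime_card
    have hcard : Nat.card S = 1255205709190661721292800 := by rw [Nat.card_congr e.toEquiv, card_F]
    rw [hcard] at h1
    exact absurd h1 (by norm_num)
  exact row_of Cfsg.Agent.H569.K547.d3_m24 h (Cfsg.Agent.H593.K4.good5_fi24 h) fun τ hτ hn hD =>
    Cfsg.Agent.H845.K547.d3_autExt hna hD (by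
      obtain ⟨s, hs⟩ := hτ
      exact ⟨s, fun x => by rw [pow_two]; exact hs x⟩) hn

end Cfsg.Agent.H813.K547.FiTF
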