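import Cfsg.Agent.H813.K547.Par
import Cfsg.Agent.H38.K547.Tool
import Cfsg.Agent.H827.Coco
import Cfsg.Agent.H30.GraphFi24A
import Cfsg.Agent.H968.Imc.RankThreeRat
import Cfsg.Agent.KFacts.FiTF.FrameF

/-!
# S4547: the row of `Fi24'` (helper813)

* `exists_chi` : the character of degree 57477 is good and invariant under all automorphisms;
* `exists_x` : an element of order 23 centralized by a transposition;
* `d3_of` : `D3` from `2^11 : M24`;
* `row_of` : the row.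
-/

set_option autoImplicit false
set_option maxRecDepth 10000

namespace Cfsg.Agent.H813.K547.FiTF

open Cfsg Cfsg.Agent.Characters.Core Cfsg.Agent.H601.K4 Cfsg.Agent.H821.K547 Cfsg.Agent.H813.K547
open Cfsg.Agent.R08
open Cfsg.Spor (Fi24)
open Cfsg.Agent.Fischer.Fi24Class (gen)
open Cfsg.Agent.Fischer.Fi24Final (sgn sgn_gen)

universe u

local notation "L" => Cfsg.Agent.R08.FiTwentyFour.L

theorem card_F : Nat.card Spor.Fi24' = 1255205709190661721292800 := H30.GraphFi24.card_F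

theorem finite_F : Finite Spor.Fi24' := H30.GraphFi24.finite_Fi24'

/-! ### The permutation character of degree 306936 -/

theorem card_fixedBy_aut (τ : MulAut Spor.Fi24') (g : Spor.Fi24') :
    Nat.card (@MulAction.fixedBy Spor.Fi24' (L : Set Fi24) _ H30.GraphFi24.act (τ g)) =
      Nat.card (@MulAction.fixedBy Spor.Fi24' (L : Set Fi24) _ H30.GraphFi24.act g) := by
  obtain ⟨y, hy⟩ := KFacts.FiTF.exists_conj τ
  let _ := H30.GraphFi24.act
  have hsm : ∀ (g : Spor.Fi24') (t : (L : Set Fi24)), ((g • t : (L : Set Fi24)) : Fi24) = g * t * (g : Fi24)⁻¹ :=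
    fun g t => rfl
  have h1 : ∀ t : Fi24, ((τ g : Spor.Fi24') : Fi24) * t * ((τ g : Spor.Fi24') : Fi24)⁻¹ = t ↔
      (g : Fi24) * (y⁻¹ * t * y) * (g : Fi24)⁻¹ = y⁻¹ * t * y := by
    intro t
    rw [hy]
    constructor
    · intro h
      calc (g : Fi24) * (y⁻¹ * t * y) * (g : Fi24)⁻¹
          = y⁻¹ * (y * g * y⁻¹ * t * (y * g * y⁻¹)⁻¹) * y := by group
        _ = _ := by rw [h]
    · intro h
      calc y * g * y⁻¹ * t * (y * g * y⁻¹)⁻¹
          = y * ((g : Fi24) * (y⁻¹ * t * y) * (g : Fi24)⁻¹) * y⁻¹ := by group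
        _ = t := by rw [h]; group
  have hL : ∀ t : Fi24, t ∈ L → y⁻¹ * t * y ∈ L := fun t ht => by
    have := FiTwentyFour.conj ht y⁻¹
    rwa [inv_inv] at this
  refine Nat.card_congr ⟨fun t => ⟨⟨y⁻¹ * (t.1 : Fi24) * y, hL _ t.1.2⟩, Subtype.ext ((h1 _).1 (congrArg Subtype.val t.2))⟩,
    fun t => ⟨⟨y * (t.1 : Fi24) * y⁻¹, FiTwentyFour.conj t.1.2 y⟩, Subtype.ext ((h1 _).2 ?_)⟩, fun t => ?_, fun t => ?_⟩
  · have h2 : (g : Fi24) * (t.1 : Fi24) * (g : Fi24)⁻¹ = (t.1 : Fi24) := congrArg Subtype.val t.2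
    have h3 : y⁻¹ * (y * (t.1 : Fi24) * y⁻¹) * y = (t.1 : Fi24) := by group
    rw [h3]
    exact h2
  · apply Subtype.ext
    apply Subtype.ext
    show y * (y⁻¹ * (t.1 : Fi24) * y) * y⁻¹ = (t.1 : Fi24)
    group
  · apply Subtype.ext
    apply Subtype.ext
    show y⁻¹ * (y * (t.1 : Fi24) * y⁻¹) * y = (t.1 : Fi24)
    group

/-- **The character of degree 57477.** -/
theorem exists_chi : ∃ χ : Spor.Fi24' → ℂ, Good χ ∧ charDegree χ = 57477 ∧
    (∀ g, ∃ z : ℤ, χ g = z) ∧ ∀ (τ : MulAut Spor.Fi24') (x : Spor.Fi24'), χ (τ x) = χ x := by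
  classical
  have := finite_F
  have := Fintype.ofFinite Spor.Fi24'
  let _ := H30.GraphFi24.act
  obtain ⟨a, b, ha, hb, hab, hda, hdb⟩ : ∃ a b : IrrCharacter Spor.Fi24', (∀ g, ∃ z : ℤ, (a : Spor.Fi24' → ℂ) g = z) ∧
      (∀ g, ∃ z : ℤ, (b : Spor.Fi24' → ℂ) g = z) ∧
      (∀ g : Spor.Fi24', (Nat.card (MulAction.fixedBy (L : Set Fi24) g) : ℂ) =
        1 + (a : Spor.Fi24' → ℂ) g + (b : Spor.Fi24' → ℂ) g) ∧
      charDegree (a : Spor.Fi24' → ℂ) = 57477 ∧ charDegree (b : Spor.Fi24' → ℂ) = 249458 := by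
    obtain ⟨χ₁, χ₂, h1, h2, h3, h4⟩ := H968.Imc.exists_pair H30.GraphFi24.r3
      (fun a b => (Nat.beq a 57477 && Nat.beq b 249458) || (Nat.beq a 249458 && Nat.beq b 57477)) (by decide +kernel)
    simp only [Bool.or_eq_true, Bool.and_eq_true, Nat.beq_eq] at h4
    rcases h4 with ⟨h4, h5⟩ | ⟨h4, h5⟩
    · exact ⟨χ₁, χ₂, h1, h2, h3, h4, h5⟩
    · exact ⟨χ₂, χ₁, h2, h1, fun g => by rw [h3 g]; ring, h5, h4⟩
  have hodd : OddIrr (a : Spor.Fi24' → ℂ) := ⟨a.2, by rw [hda]; norm_num⟩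
  have hreal : ∀ x, ((a : Spor.Fi24' → ℂ) x).im = 0 := fun x => by
    obtain ⟨z, hz⟩ := ha x
    rw [hz, Complex.intCast_im]
  refine ⟨a, H740.K4.good_of_rat a.2 (fun g => ?_) (by rw [hda]; decide), hda, ha, fun τ => ?_⟩
  · obtain ⟨z, hz⟩ := ha g
    exact ⟨z, by rw [hz]; push_cast; rfl⟩
  · rw [← tauI_eq_iff]
    by_contra hne
    have hnb : b ≠ tauI τ a := by
      intro h
      have h1 := charDegree_tauI τ a
      rw [← h, hdb, hda] at h1
      norm_num at h1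
    have hnb' : tauI τ b ≠ tauI τ a := by
      intro h
      have h1 := charDegree_tauI τ a
      rw [← h, charDegree_tauI, hdb, hda] at h1
      norm_num at h1
    have h1 : ∀ g, (tauI τ a : Spor.Fi24' → ℂ) g + (tauI τ b : Spor.Fi24' → ℂ) g =
        (a : Spor.Fi24' → ℂ) g + (b : Spor.Fi24' → ℂ) g := by
      intro g
      have h2 := hab (τ g)
      rw [card_fixedBy_aut, hab g] at h2
      rw [tauI_apply, tauI_apply]
      linear_combination -h2
    have h2 : classInner ((tauI τ a : Spor.Fi24' → ℂ) + (tauI τ b : Spor.Fi24' → ℂ)) (tauI τ a : Spor.Fi24' → ℂ) =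
        classInner ((a : Spor.Fi24' → ℂ) + (b : Spor.Fi24' → ℂ)) (tauI τ a : Spor.Fi24' → ℂ) := by
      congr 1
      funext g
      exact h1 g
    rw [classInner_add_left, classInner_add_left, classInner_irr_self (tauI τ a).2,
      classInner_irr_ne (tauI τ b).2 (tauI τ a).2 (fun h => hnb' (Subtype.ext h)),
      classInner_irr_ne a.2 (tauI τ a).2 (fun h => hne (Subtype.ext h.symm)),
      classInner_irr_ne b.2 (tauI τ a).2 (fun h => hnb (Subtype.ext h))] at h2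
    norm_num at h2

/-! ### The element of order 23 -/

theorem exists_x : ∃ x : Spor.Fi24', orderOf x = 23 ∧ ∀ τ : MulAut Spor.Fi24', ∃ s : Spor.Fi24', τ x = s * x * s⁻¹ := by
  have hc : Nat.card Spor.Fi23 = 4089470473293004800 := Fischer.Fi23Simple.card_Fi23
  have : Finite Spor.Fi23 := Nat.finite_of_card_ne_zero (by rw [hc]; norm_num)
  have : Fact (Nat.Prime 23) := ⟨by norm_num⟩
  obtain ⟨k, hk⟩ := exists_prime_orderOf_dvd_card' (G := Spor.Fi23) 23 (by rw [hc]; norm_num)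
  obtain ⟨h1, h2⟩ := (FiTwentyFour.facts.mem_range_iff (FiTwentyFour.facts.phi k)).1 ⟨k, rfl⟩
  have hm : FiTwentyFour.facts.phi k ∈ commutator Fi24 := FiTwentyFour.mem_commutator_iff.2 h2
  refine ⟨⟨_, hm⟩, ?_, fun τ => ?_⟩
  · have h3 : orderOf (FiTwentyFour.facts.phi k) = 23 := by
      rw [orderOf_injective _ FiTwentyFour.facts.phi_injective, hk]
    rw [← h3]
    exact (Subgroup.orderOf_coe (⟨_, hm⟩ : commutator Fi24)).symm
  · obtain ⟨y, hy⟩ := KFacts.FiTF.exists_conj τ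
    rcases Int.units_eq_one_or (sgn y) with h4 | h4
    · exact ⟨⟨y, FiTwentyFour.mem_commutator_iff.2 h4⟩, Subtype.ext (hy _)⟩
    · refine ⟨⟨y * gen .l, FiTwentyFour.mem_commutator_iff.2 ?_⟩, Subtype.ext ?_⟩
      · rw [map_mul, h4, show sgn (gen .l) = -1 from sgn_gen _]
        decide
      · rw [hy]
        show y * FiTwentyFour.facts.phi k * y⁻¹ = y * gen .l * FiTwentyFour.facts.phi k * (y * gen .l)⁻¹
        calc y * FiTwentyFour.facts.phi k * y⁻¹
            = y * (FiTwentyFour.facts.phi k * gen .l) * (gen .l)⁻¹ * y⁻¹ := by group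
          _ = y * (gen .l * FiTwentyFour.facts.phi k) * (gen .l)⁻¹ * y⁻¹ := by rw [h1]
          _ = _ := by group

/-- the square of an automorphism is inner -/
theorem sq_inn (τ : MulAut Spor.Fi24') : ∃ s : Spor.Fi24', ∀ x, τ (τ x) = s * x * s⁻¹ := by
  obtain ⟨y, hy⟩ := KFacts.FiTF.exists_conj τ
  refine ⟨⟨y * y, FiTwentyFour.mem_commutator_iff.2 ?_⟩, fun x => Subtype.ext ?_⟩
  · rw [map_mul]
    rcases Int.units_eq_one_or (sgn y) with h4 | h4 <;> rw [h4] <;> decide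
  · rw [hy, hy]
    show y * (y * x * y⁻¹) * y⁻¹ = y * y * x * (y * y)⁻¹
    group

/-! ### `D3` -/

theorem d3_of (hM : D3 ↥M24) : D3 Spor.Fi24' := by
  have := finite_F
  exact H38.K547.d3_of_map _ H827.Coco.odd_index H827.Coco.ind H827.Coco.ind_surj hM

/-! ### The row -/

section row

variable {S : Type u} [Group S]

theorem ginv3 (h : Spor.IsoFi24' S) {τ : MulAut S} (hτ : TwoPow τ) : GInv3 τ := by
  obtain ⟨e⟩ := h
  have := finite_F
  have : Finite S := Finite.of_equiv _ e.symm.toEquiv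
  have hcard : Nat.card S = 1255205709190661721292800 := by rw [Nat.card_congr e.toEquiv, card_F]
  obtain ⟨χ, hχ, hd, -, hinv⟩ := exists_chi
  obtain ⟨x, hx, hxc⟩ := exists_x
  have hd' : charDegree (fun s : S => χ (e s)) = 57477 := by
    rw [← hd]
    show ⌊(χ (e 1)).re⌋₊ = ⌊(χ 1).re⌋₊
    rw [map_one]
  refine ginv3_of_div (p := 23) (χ := fun s => χ (e s)) (x := e.symm x) (by rw [hcard]; decide)
    (H740.K4.good_comp e hχ) hτ (fun s => ?_) (by norm_num) (by norm_num) (by rw [hcard]; norm_num)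
    (by rw [hd']; norm_num) (by rw [MulEquiv.orderOf_eq, hx]) ?_
  · have h1 := hinv (MulAut.congr e τ) (e s)
    have h2 : MulAut.congr e τ (e s) = e (τ s) := by
      show e (τ (e.symm (e s))) = _
      rw [e.symm_apply_apply]
    rwa [h2] at h1
  · obtain ⟨s, hs⟩ := hxc (MulAut.congr e τ)
    have h2 : MulAut.congr e τ x = e (τ (e.symm x)) := rfl
    rw [h2] at hs
    refine ⟨e.symm s, ?_⟩
    apply e.injective
    rw [hs, map_mul, map_mul, map_inv, e.apply_symm_apply, e.apply_symm_apply]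

theorem sq_inn' (h : Spor.IsoFi24' S) (τ : MulAut S) : ∃ s : S, ∀ x, τ (τ x) = s * x * s⁻¹ := by
  obtain ⟨e⟩ := h
  obtain ⟨s, hs⟩ := sq_inn (MulAut.congr e τ)
  refine ⟨e.symm s, fun x => ?_⟩
  have h1 := hs (e x)
  have h2 : ∀ x, MulAut.congr e τ (e x) = e (τ x) := by
    intro x
    show e (τ (e.symm (e x))) = _
    rw [e.symm_apply_apply]
  rw [h2, h2] at h1
  apply e.injective
  rw [h1, map_mul, map_mul, map_inv, e.apply_symm_apply]

theorem d3_of' (hM : D3 ↥M24) (h : Spor.IsoFi24' S) : D3 S := by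
  obtain ⟨e⟩ := h
  have := finite_F
  have : Finite S := Finite.of_equiv _ e.symm.toEquiv
  exact H38.K547.d3_congr e (d3_of hM)

/-- the row, from `D3 M24`, the Jordan tool and the K4 row -/
theorem row_of (hM : D3 ↥M24) (h : Spor.IsoFi24' S) (hG : Good5 S)
    (hJ : ∀ τ : MulAut S, (∃ s : S, ∀ x, τ (τ x) = s * x * s⁻¹) → ¬ IsInn τ → D3 S → D3 (AutExt τ)) : Row S :=
  ⟨Or.inl ⟨hG, d3_of' hM h⟩, fun τ hτ hn => ⟨fun _ => hJ τ (sq_inn' h τ) hn (d3_of' hM h), fun _ => ginv3 h hτ⟩⟩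

end row

end Cfsg.Agent.H813.K547.FiTF
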